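import Mathlib
import Cfsg.Agent.H716.CopRow
import Cfsg.Agent.H686.CgPsp
import Cfsg.Agent.S0282
import Cfsg.Agent.Prune
set_option linter.all false
prune_inst 0x7f00000000000000000000000000000000000000000000000000000000000000000000000000000000000000000000000000000000000000000000000000000000000000000000000000000000000000003fffffffffffffffffffffffffffbeffbdffffffff
open scoped Cfsg.Agent.FastGrp

/-!
# The unitary groups: an automorphism of prime order not dividing the order (task of helper716)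

`tRow_psu` : `TRow r (PSU n F q)`, `F` of characteristic `r`.
-/

set_option autoImplicit false

namespace Cfsg.Agent.H471.TRowPSU

open Cfsg Subgroup

/-! ### Fields and numbers -/

theorem exists_card_fixed {F : Type*} [Field F] [Fintype F] {p : ℕ} (hp : p.Prime) {τ : F ≃+* F}
    (hτ : orderOf τ = p) : ∃ m : ℕ, m ^ p = Fintype.card F ∧ ∀ x : F, τ x = x → x ^ m = x := by
  classical
  have : Finite (F ≃+* F) := Finite.of_injective (fun e : F ≃+* F => (e : F → F)) DFunLike.coe_injective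
  let H : Subgroup (F ≃+* F) := zpowers τ
  letI : Fintype H := Fintype.ofFinite H
  have h1 : Module.finrank (FixedPoints.subfield H F) F = Fintype.card H := FixedPoints.finrank_eq_card H F
  have h2 : Fintype.card H = p := by
    rw [← Nat.card_eq_fintype_card, Nat.card_zpowers, hτ]
  letI : Fintype (FixedPoints.subfield H F) := Fintype.ofFinite _
  refine ⟨Fintype.card (FixedPoints.subfield H F), ?_, ?_⟩
  · have h3 := Module.card_eq_pow_finrank (K := FixedPoints.subfield H F) (V := F)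
    rw [h1, h2] at h3
    exact h3.symm
  · intro x hx
    have hx' : x ∈ FixedPoints.subfield H F := by
      intro g
      obtain ⟨g, k, rfl⟩ := g
      show (τ ^ k) x = x
      have : τ ∈ MulAction.stabilizer (F ≃+* F) x := hx
      exact (MulAction.stabilizer (F ≃+* F) x).zpow_mem this k
    have h4 := FiniteField.pow_card (⟨x, hx'⟩ : FixedPoints.subfield H F)
    exact congrArg Subtype.val h4

theorem exists_root {p r f m q : ℕ} (hp : p.Prime) (hp2 : p ≠ 2) (hr : r.Prime) (hq : q = r ^ f) (hf : 1 ≤ f)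
    (hm : m ^ p = q ^ 2) : ∃ q0 : ℕ, 2 ≤ q0 ∧ q = q0 ^ p ∧ m = q0 ^ 2 := by
  have h1 : m ∣ r ^ (2 * f) := by
    refine (dvd_pow_self m hp.ne_zero).trans ?_
    rw [hm, hq, ← pow_mul, mul_comm]
  obtain ⟨j, -, hj⟩ := (Nat.dvd_prime_pow hr).1 h1
  have h2 : j * p = 2 * f := by
    have h3 : r ^ (j * p) = r ^ (2 * f) := by
      rw [pow_mul, ← hj, hm, hq, ← pow_mul, mul_comm]
    exact Nat.pow_right_injective hr.two_le h3
  have h3 : 2 ∣ j := by
    have h4 : 2 ∣ j * p := ⟨f, h2⟩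
    rcases Nat.prime_two.dvd_mul.1 h4 with h | h
    · exact h
    · exact absurd ((Nat.prime_dvd_prime_iff_eq Nat.prime_two hp).1 h).symm hp2
  obtain ⟨i, rfl⟩ := h3
  have h4 : i * p = f := by
    have : 2 * (i * p) = 2 * f := by rw [← h2]; ring
    omega
  have hi : 1 ≤ i := by
    rcases Nat.eq_zero_or_pos i with h | h
    · rw [h, zero_mul] at h4; omega
    · exact h
  refine ⟨r ^ i, ?_, ?_, ?_⟩
  · calc 2 ≤ r := hr.two_le
      _ = r ^ 1 := (pow_one r).symm
      _ ≤ r ^ i := Nat.pow_le_pow_right hr.pos hi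
  · rw [hq, ← h4, pow_mul]
  · rw [hj, ← pow_mul, mul_comm]

theorem eq_of_dvd {p q0 : ℕ} (hp : p.Prime) (hp2 : p ≠ 2) (h0 : 2 ≤ q0)
    (h : q0 ^ p + 1 ∣ 3 * (q0 ^ 2 - 1)) : p = 3 ∧ q0 = 2 := by
  have hodd : Odd p := hp.odd_of_ne_two hp2
  have h3p : 3 ≤ p := by
    have := hp.two_le
    omega
  have h1 : q0 ^ 2 - 1 ∣ q0 ^ (p - 1) - 1 := by
    obtain ⟨k, hk⟩ := hodd
    have : p - 1 = 2 * k := by omega
    rw [this, pow_mul]
    simpa only [_root_.one_pow] using Nat.sub_dvd_pow_sub_pow (q0 ^ 2) 1 k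
  -- `q0 ^ p + 1 = q0 * (q0 ^ (p - 1) - 1) + (q0 + 1)`
  have h2 : q0 ^ p + 1 = q0 * (q0 ^ (p - 1) - 1) + (q0 + 1) := by
    have h4 : 1 ≤ q0 ^ (p - 1) := Nat.one_le_pow _ _ (by omega)
    obtain ⟨c, hc⟩ := Nat.exists_eq_add_of_le h4
    have h5 : q0 ^ p = q0 * q0 ^ (p - 1) := by
      rw [← pow_succ']
      congr 1
      omega
    rw [h5, hc, Nat.add_sub_cancel_left]
    ring
  have h3 : q0 ^ p + 1 ∣ 3 * (q0 + 1) := by
    -- `d` divides `3 (q0^2 - 1)`, hence `3 q0 (q0^(p-1) - 1)`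
    obtain ⟨c, hc⟩ := h1
    have h4 : q0 ^ p + 1 ∣ 3 * (q0 * (q0 ^ (p - 1) - 1)) := by
      rw [hc]
      have : 3 * (q0 * ((q0 ^ 2 - 1) * c)) = 3 * (q0 ^ 2 - 1) * (q0 * c) := by ring
      rw [this]
      exact Dvd.dvd.mul_right h _
    have h5 : q0 ^ p + 1 ∣ 3 * (q0 ^ p + 1) := Dvd.intro_left _ rfl
    have h6 : 3 * (q0 ^ p + 1) = 3 * (q0 * (q0 ^ (p - 1) - 1)) + 3 * (q0 + 1) := by
      rw [h2]; ring
    have h7 := (Nat.dvd_add_right h4).1 (h6 ▸ h5)
    exact h7
  have h4 : q0 ^ p + 1 ≤ 3 * (q0 + 1) := Nat.le_of_dvd (by omega) h3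
  rcases Nat.lt_or_ge 3 p with h5 | h5
  · exfalso
    have h6 : q0 ^ 4 ≤ q0 ^ p := Nat.pow_le_pow_right (by omega) h5
    nlinarith only [h0, h4, h6, Nat.pow_le_pow_left h0 2]
  · have hp3 : p = 3 := by omega
    subst hp3
    refine ⟨rfl, ?_⟩
    by_contra hne
    have h6 : 3 ≤ q0 := by omega
    nlinarith only [h4, Nat.pow_le_pow_left h6 2]

/-! ### The elements -/

open Cfsg.Agent.LieClassical.HermBasic Cfsg.Agent.LieClassical.HermSiegel Cfsg.Agent.LieClassical.SUBasic
  Cfsg.Agent.ClassicalGeometry.UnitAutBasic Cfsg.Agent.ClassicalGeometry.PSUAutCount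
  Cfsg.Agent.LieClassical.FieldTransfer Matrix

variable {F : Type*} [Field F] [Fintype F] {q k : ℕ}

/-- an element of order `q + 1` -/
theorem exists_norm_gen (hF : Fintype.card F = q ^ 2) : ∃ a : Fˣ, orderOf a = q + 1 := by
  obtain ⟨g, hg⟩ := IsCyclic.exists_ofOrder_eq_natCard (α := Fˣ)
  rw [card_units_eq hF] at hg
  have h2 := two_le hF
  refine ⟨g ^ (q - 1), ?_⟩
  rw [orderOf_pow, hg, Nat.gcd_mul_left_left, Nat.mul_div_cancel _ (by omega)]

/-- the diagonal entries -/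
def dg (k : ℕ) (a : F) : Fin (k + 3) → F := fun i =>
  if i.val = 0 then a else if i.val = 1 then a else if i.val = 2 then (a * a)⁻¹ else 1

omit [Fintype F] in
theorem prod_dg {a : F} (ha : a ≠ 0) : ∏ i, dg k a i = 1 := by
  rw [Fin.prod_univ_succ, Fin.prod_univ_succ, Fin.prod_univ_succ]
  have h0 : dg k a 0 = a := by simp [dg]
  have h1 : dg k a (Fin.succ 0) = a := by simp [dg]
  have h2 : dg k a (Fin.succ (Fin.succ 0)) = (a * a)⁻¹ := by
    have e : (Fin.succ (Fin.succ (0 : Fin (k + 1))) : Fin (k + 3)).val = 2 := rfl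
    unfold dg
    rw [e]
    norm_num
  have h3 : ∀ i : Fin k, dg k a (Fin.succ (Fin.succ (Fin.succ i))) = 1 := by
    intro i
    simp [dg]
  rw [h0, h1, h2]
  simp only [h3, Finset.prod_const_one, mul_one]
  field_simp

omit [Fintype F] in
theorem dg_pow {a : F} (ha : a ^ (q + 1) = 1) (i : Fin (k + 3)) : dg k a i ^ (q + 1) = 1 := by
  unfold dg
  split_ifs
  · exact ha
  · exact ha
  · rw [inv_pow, mul_pow, ha, mul_one, inv_one]
  · exact one_pow _

omit [Fintype F] in
theorem dg_pow' {a : F} (m : ℕ) (i : Fin (k + 3)) : dg k a i ^ m = dg k (a ^ m) i := by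
  unfold dg
  split_ifs
  · rfl
  · rfl
  · rw [inv_pow, mul_pow]
  · exact one_pow _

omit [Fintype F] in
theorem map_dg {a : F} (τ : F ≃+* F) (i : Fin (k + 3)) : τ (dg k a i) = dg k (τ a) i := by
  unfold dg
  split_ifs
  · rfl
  · rfl
  · rw [map_inv₀, map_mul]
  · exact map_one _

/-- the element `diag(a, a, a⁻², 1, …)` of `SU` -/
def dSU {a : F} (ha : a ≠ 0) (h : a ^ (q + 1) = 1) : SU (k + 3) F q :=
  suDiag q (dg k a) (prod_dg ha) (dg_pow h)

omit [Fintype F] in
theorem act_dSU {a : F} (ha : a ≠ 0) (h : a ^ (q + 1) = 1) (v : Fin (k + 3) → F) :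
    act (dSU (k := k) ha h) v = fun i => dg k a i * v i := by
  funext i
  show (Matrix.diagonal (dg k a) *ᵥ v) i = _
  rw [Matrix.mulVec_diagonal]

omit [Fintype F] in
theorem dSU_pow {a : F} (ha : a ≠ 0) (h : a ^ (q + 1) = 1) (m : ℕ) :
    dSU (k := k) ha h ^ m = dSU (pow_ne_zero m ha) (by rw [← pow_mul, mul_comm, pow_mul, h, one_pow]) := by
  apply ext_act
  intro v
  have key : ∀ m : ℕ, act (dSU (k := k) ha h ^ m) v = fun i => dg k a i ^ m * v i := by
    intro m
    induction m with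
    | zero => rw [pow_zero, act_one]; funext i; rw [pow_zero, one_mul]
    | succ m ih =>
      rw [pow_succ', act_mul, ih, act_dSU]
      funext i
      rw [pow_succ', mul_assoc]
  rw [key, act_dSU]
  funext i
  rw [dg_pow']

omit [Fintype F] in
theorem dSU_congr {a b : F} (ha : a ≠ 0) (h : a ^ (q + 1) = 1) (hb : b ≠ 0) (h' : b ^ (q + 1) = 1) (e : a = b) :
    dSU (k := k) ha h = dSU hb h' := by
  subst e
  rfl

omit [Fintype F] in
theorem suCongr_dSU {a : F} (ha : a ≠ 0) (h : a ^ (q + 1) = 1) (τ : F ≃+* F) :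
    suCongr (k + 3) q τ (dSU (k := k) ha h) =
      dSU (k := k) (a := τ a) (fun e => ha (τ.injective (by rw [e, map_zero]))) (by rw [← map_pow, h, map_one]) := by
  apply ext_act
  intro v
  have h1 := act_suCongr τ (dSU (k := k) ha h) (fun i => τ.symm (v i))
  have h2 : (fun i => τ ((fun i => τ.symm (v i)) i)) = v := by
    funext i
    simp
  rw [h2, act_dSU] at h1
  rw [h1, act_dSU]
  funext i
  rw [map_mul, map_dg, RingEquiv.apply_symm_apply]

/-! ### The field automorphism -/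

omit [Fintype F] in
theorem fld_pr (τ : F ≃+* F) {n : ℕ} (g : SU n F q) :
    H254.PSUn.fld n q τ (pr n F q g) = pr n F q (suCongr n q τ g) := by
  rw [H254.PSUn.fld_apply, toAut_pr]
  congr 1
  apply ext_act
  intro x
  have h1 := act_semiConj (1 : Cfsg.GU n F q) τ g (fun i => τ.symm (x i))
  have h2 : (fun i => τ ((fun i => τ.symm (x i)) i)) = x := by
    funext i
    simp
  rw [h2, gm_one, one_mulVec, one_mulVec] at h1
  rw [h1]
  have h3 := act_suCongr τ g (fun i => τ.symm (x i))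
  rw [h2] at h3
  exact h3.symm

/-- the isotropic vector -/
def vv (k : ℕ) (b : F) : Fin (k + 3) → F := fun i => if i.val = 0 then 1 else if i.val = 1 then b else 0

theorem vv_iso (hF : Fintype.card F = q ^ 2) {b : F} (hb : b * b ^ q = -1) :
    hermForm (k + 3) F q (vv k b) (vv k b) = 0 := by
  have hq : q ≠ 0 := by
    have := two_le hF
    omega
  rw [hermForm_apply, Fin.sum_univ_succ, Fin.sum_univ_succ]
  have h0 : vv k b 0 = 1 := by simp [vv]
  have h1 : vv k b (Fin.succ 0) = b := by simp [vv]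
  have h3 : ∀ i : Fin (k + 1), vv k b (Fin.succ (Fin.succ i)) = 0 := by
    intro i
    simp [vv]
  rw [h0, h1]
  simp only [h3, zero_mul, Finset.sum_const_zero, one_pow, mul_one, add_zero]
  rw [hb]
  ring

omit [Fintype F] in
theorem vv_ne {b : F} : vv k b ≠ 0 := by
  intro h
  have := congrFun h 0
  simp [vv] at this

omit [Fintype F] in
theorem act_dSU_vv {a b : F} (ha : a ≠ 0) (h : a ^ (q + 1) = 1) :
    act (dSU (k := k) ha h) (vv k b) = a • vv k b := by
  rw [act_dSU]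
  funext i
  show dg k a i * vv k b i = a * vv k b i
  unfold dg vv
  split_ifs <;> simp

theorem commute_tau (hF : Fintype.card F = q ^ 2) {a b : F} (ha : a ≠ 0) (h : a ^ (q + 1) = 1)
    (hb : b * b ^ q = -1) :
    Commute (pr (k + 3) F q (dSU ha h)) (tau hF (vv k b)) := by
  have hv := vv_iso (k := k) hF hb
  have h1 := conj_tau hF (dSU (k := k) ha h) hv
  rw [act_dSU_vv] at h1
  have h2 : tau hF (a • vv k b) = tau hF ((1 : F) • vv k b) :=
    tau_smul_congr hF hv (by rw [← pow_succ', h, one_pow, one_mul])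
  rw [h2, one_smul] at h1
  exact mul_inv_eq_iff_eq_mul.1 h1

/-- transvections have order `r` -/
theorem orderOf_tau (hF : Fintype.card F = q ^ 2) {n : ℕ} (hn : 3 ≤ n) {r : ℕ} (hr : r.Prime) [CharP F r]
    {v : Fin n → F} (hv : hermForm n F q v v = 0) (h0 : v ≠ 0) : orderOf (tau hF v) = r := by
  have : Fact r.Prime := ⟨hr⟩
  refine orderOf_eq_prime ?_ ?_
  · have key : ∀ (m : ℕ) (x : Fin n → F), act (T hF v ^ m) x = x + (m : F) • ((c0 hF * hermForm n F q x v) • v) := by
      intro m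
      induction m with
      | zero => intro x; rw [pow_zero, act_one, Nat.cast_zero, zero_smul, add_zero]
      | succ m ih =>
        intro x
        rw [pow_succ, act_mul, ih, act_T hF hv, herm_add_left, herm_smul_left, hv, mul_zero, add_zero, Nat.cast_succ,
          add_smul, one_smul]
        abel
    rw [tau_def, ← map_pow]
    have h1 : T hF v ^ r = 1 := by
      apply ext_act
      intro x
      rw [key, CharP.cast_eq_zero, zero_smul, add_zero, act_one]
    rw [h1, map_one]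
  · intro h
    exact h0 ((tau_eq_one_iff hF hn hv).1 h)

/-! ### The row -/

theorem core (hF : Fintype.card F = q ^ 2) {r : ℕ} (hr : r.Prime) [CharP F r] {p : ℕ} (hp : p.Prime)
    (hpG : ¬ p ∣ Nat.card (PSU (k + 3) F q)) (τ : F ≃+* F) (hτ : orderOf τ = p) :
    ∃ e u : PSU (k + 3) F q, Commute e u ∧ r ∣ orderOf u ∧ (orderOf e).Coprime (orderOf u) ∧
      H254.PSUn.fld (k + 3) q τ e ∈ zpowers e ∧ H254.PSUn.fld (k + 3) q τ e ≠ e := by
  have hn : 3 ≤ k + 3 := by omega
  -- `q = r ^ f`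
  have : Fact r.Prime := ⟨hr⟩
  obtain ⟨d, -, hd⟩ := FiniteField.card F r
  obtain ⟨f, -, hf⟩ := (Nat.dvd_prime_pow hr).1
    (show q ∣ r ^ (d : ℕ) by rw [← hd, hF]; exact dvd_pow_self q two_ne_zero)
  have hq2 := two_le hF
  have hf1 : 1 ≤ f := by
    rcases Nat.eq_zero_or_pos f with h | h
    · rw [h, pow_zero] at hf; omega
    · exact h
  have hrq : r ∣ q := by rw [hf]; exact dvd_pow_self r (by omega)
  obtain ⟨au, hau⟩ := exists_norm_gen hF
  set a : F := (au : F) with ha_def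
  have ha0 : a ≠ 0 := au.ne_zero
  have ha1 : a ^ (q + 1) = 1 := by
    have h1 : au ^ (q + 1) = 1 := by rw [← hau, pow_orderOf_eq_one]
    rw [ha_def, ← Units.val_pow_eq_pow_val, h1, Units.val_one]
  obtain ⟨b, hb⟩ := _root_.Cfsg.Agent.LieClassical.HermBasic.exists_norm_eq hF (c := (-1 : F)) (by rw [neg_pow_q hF, one_pow])
  have hv := vv_iso (k := k) hF hb
  have hu : orderOf (tau hF (vv k b)) = r := orderOf_tau hF hn hr hv vv_ne
  have hrG : r ∣ Nat.card (PSU (k + 3) F q) := by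
    rw [← hu]; exact _root_.orderOf_dvd_natCard _
  have hp2 : p ≠ 2 := by
    rintro rfl
    rcases hr.eq_two_or_odd' with h | h
    · rw [h] at hrG; exact hpG hrG
    · apply hpG
      apply H254.PSUn.dvd_card hF hn
      have : Odd q := by rw [hf]; exact h.pow
      exact even_iff_two_dvd.1 this.add_one
  -- the image of `a`
  have hta1 : (τ a) ^ (q + 1) = 1 := by rw [← map_pow, ha1, map_one]
  have hta0 : τ a ≠ 0 := fun e => ha0 (τ.injective (by rw [e, map_zero]))
  obtain ⟨i, hi⟩ : ∃ i : ℕ, τ a = a ^ i := by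
    have hprim : IsPrimitiveRoot a (q + 1) := by
      have h1 : IsPrimitiveRoot au (q + 1) := by rw [← hau]; exact IsPrimitiveRoot.orderOf au
      exact h1.map_of_injective (f := Units.coeHom F) Units.val_injective
    obtain ⟨i, -, hi⟩ := hprim.eq_pow_of_pow_eq_one hta1
    exact ⟨i, hi.symm⟩
  have he : H254.PSUn.fld (k + 3) q τ (pr (k + 3) F q (dSU ha0 ha1)) = pr (k + 3) F q (dSU hta0 hta1) := by
    rw [fld_pr, suCongr_dSU]
  refine ⟨pr (k + 3) F q (dSU ha0 ha1), tau hF (vv k b), commute_tau hF ha0 ha1 hb, by rw [hu], ?_, ?_, ?_⟩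
  · rw [hu]
    have h1 : orderOf (pr (k + 3) F q (dSU ha0 ha1)) ∣ q + 1 := by
      apply orderOf_dvd_of_pow_eq_one
      rw [← map_pow, dSU_pow]
      have h2 : dSU (k := k) (q := q) (pow_ne_zero (q + 1) ha0) (by rw [← pow_mul, mul_comm, pow_mul, ha1, one_pow]) =
          (1 : SU (k + 3) F q) := by
        apply ext_act
        intro v
        rw [act_dSU, act_one]
        funext j
        rw [ha1]
        unfold dg
        split_ifs <;> simp
      rw [h2, map_one]
    refine Nat.Coprime.coprime_dvd_left h1 ?_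
    refine Nat.Coprime.coprime_dvd_right hrq ?_
    simp
  · rw [he]
    refine ⟨(i : ℤ), ?_⟩
    show (pr (k + 3) F q (dSU ha0 ha1)) ^ (i : ℤ) = _
    rw [zpow_natCast, ← map_pow, dSU_pow]
    congr 1
    exact dSU_congr _ _ _ _ hi.symm
  · rw [he]
    intro h
    obtain ⟨c, -, hc⟩ := exists_scalar_of_pr_eq hF hn h
    have hc' : ∀ j : Fin (k + 3), dg k a j = c * dg k (τ a) j := by
      intro j
      have h1 := congrFun (hc (fun _ => 1)) j
      rw [act_dSU, act_dSU] at h1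
      simpa using h1
    have h0 := hc' 0
    have h2 := hc' 2
    have e2 : ((2 : Fin (k + 3)) : ℕ) = 2 := by
      show 2 % (k + 3) = 2
      exact Nat.mod_eq_of_lt (by omega)
    have d0 : ∀ x : F, dg k x 0 = x := by intro x; simp [dg]
    have d2 : ∀ x : F, dg k x 2 = (x * x)⁻¹ := by
      intro x
      unfold dg
      rw [e2]
      norm_num
    rw [d0, d0] at h0
    rw [d2, d2] at h2
    have h3 : τ a ^ 3 = a ^ 3 := by
      have hc0 : c ≠ 0 := by
        rintro rfl
        rw [zero_mul] at h0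
        exact ha0 h0
      have h4 : (τ a) * (τ a) = c * (a * a) := by
        have h5 : (a * a)⁻¹ * ((a * a) * (τ a * τ a)) = c * (τ a * τ a)⁻¹ * ((a * a) * (τ a * τ a)) := by rw [h2]
        have h6 : (a * a)⁻¹ * ((a * a) * (τ a * τ a)) = τ a * τ a := by field_simp
        have h7 : c * (τ a * τ a)⁻¹ * ((a * a) * (τ a * τ a)) = c * (a * a) := by field_simp
        rw [h6, h7] at h5
        exact h5
      calc τ a ^ 3 = (τ a * τ a) * τ a := by ring
        _ = (a * a) * (c * τ a) := by rw [h4]; ring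
        _ = a ^ 3 := by rw [← h0]; ring
    obtain ⟨m, hm, hfix⟩ := exists_card_fixed hp hτ
    have h4 : (a ^ 3) ^ m = a ^ 3 := hfix _ (by rw [map_pow, h3])
    obtain ⟨q0, hq0, hqq, hmq⟩ := exists_root hp hp2 hr hf hf1 (by rw [hm, hF])
    have hm1 : 1 ≤ m := by rw [hmq]; exact Nat.one_le_pow _ _ (by omega)
    have h5 : a ^ (3 * (m - 1)) = 1 := by
      have h6 : a ^ (3 * (m - 1)) * a ^ 3 = 1 * a ^ 3 := by
        rw [one_mul, ← pow_add, ← h4, ← pow_mul]
        congr 1
        omega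
      exact mul_right_cancel₀ (pow_ne_zero 3 ha0) h6
    have h6 : q + 1 ∣ 3 * (m - 1) := by
      rw [← hau]
      apply orderOf_dvd_of_pow_eq_one
      apply Units.ext
      rw [Units.val_pow_eq_pow_val, Units.val_one]
      exact h5
    rw [hqq, hmq] at h6
    obtain ⟨h7, h8⟩ := eq_of_dvd hp hp2 hq0 h6
    apply hpG
    apply H254.PSUn.dvd_card hF hn
    rw [hqq, h8, h7]
    norm_num

theorem not_comm (hF : Fintype.card F = q ^ 2) [hs : IsSimpleGroup (PSU (k + 3) F q)] :
    ¬ IsMulCommutative (PSU (k + 3) F q) := by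
  intro hc
  have hn : 3 ≤ k + 3 := by omega
  have h1 : (Nat.card (PSU (k + 3) F q)).Prime := Group.is_simple_iff_prime_card.1 hs
  obtain ⟨r, m, hr, hch, hqm, hm⟩ := exists_prime_pow hF
  obtain ⟨b, hb⟩ := _root_.Cfsg.Agent.LieClassical.HermBasic.exists_norm_eq hF (c := (-1 : F)) (by rw [neg_pow_q hF, one_pow])
  have hu : orderOf (tau hF (vv k b)) = r := orderOf_tau hF hn hr (vv_iso (k := k) hF hb) vv_ne
  have hrG : r ∣ Nat.card (PSU (k + 3) F q) := by
    rw [← hu]; exact _root_.orderOf_dvd_natCard _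
  obtain ⟨s, hs1, hs2⟩ := Nat.exists_prime_and_dvd (n := q + 1) (by have := two_le hF; omega)
  have hsG := H254.PSUn.dvd_card hF hn hs2
  have e1 := (Nat.prime_dvd_prime_iff_eq hr h1).1 hrG
  have e2 := (Nat.prime_dvd_prime_iff_eq hs1 h1).1 hsG
  have e3 : s = r := e2.trans e1.symm
  rw [e3] at hs2
  have h2 : r ∣ q := by rw [hqm]; exact dvd_pow_self r hm.ne'
  have h3 : r ∣ 1 := (Nat.dvd_add_right h2).1 hs2
  exact hr.one_lt.ne' (Nat.dvd_one.1 h3)

/-- **The row.** -/
theorem tRow_psu {r : ℕ} [Fact r.Prime] {F : Type*} [Field F] [Fintype F] [CharP F r] {q n : ℕ}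
    (hF : Fintype.card F = q ^ 2) (hn : 3 ≤ n) [IsSimpleGroup (Cfsg.PSU n F q)] :
    Cfsg.Agent.H716.CopRow.TRow r (Cfsg.PSU n F q) := by
  obtain ⟨k, rfl⟩ : ∃ k, n = k + 3 := ⟨n - 3, by omega⟩
  have hfin : Finite (PSU (k + 3) F q) := inferInstance
  have h32 : ¬ (k + 3 = 3 ∧ q = 2) := by
    rintro ⟨h1, h2⟩
    obtain rfl : k = 0 := by omega
    subst h2
    obtain ⟨h3, h4⟩ := S0282.result (F := F) (by rw [hF]; rfl)
    have h5 : IsMulCommutative (PSU (0 + 3) F 2) := by
      have h6 : IsSimpleGroup (PSU 3 F 2) := ‹IsSimpleGroup (PSU (0 + 3) F 2)›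
      have h7 : Group.IsSolvable (PSU (0 + 3) F 2) := h4
      exact ⟨⟨(IsSimpleGroup.comm_iff_isSolvable).2 h7⟩⟩
    exact not_comm hF h5
  have hna := not_comm (k := k) hF
  obtain ⟨ρ, hρ, hgen⟩ := H254.exists_ringAut F
  have hcop := H254.PSUn.copIn hF hn h32 hna ρ hρ
  intro p hp hpG α hα
  obtain ⟨g, hg⟩ := hcop (zpowers α) (by
    rw [Nat.card_zpowers, hα]
    exact (Nat.Prime.coprime_iff_not_dvd hp).2 hpG)
  have h1 : MulAut.conj g α ∈ zpowers (H254.PSUn.fld (F := F) (k + 3) q ρ) := hg ⟨α, mem_zpowers α, rfl⟩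
  obtain ⟨j, hj⟩ := h1
  have hj' : H254.PSUn.fld (F := F) (k + 3) q (ρ ^ j) = g * α * g⁻¹ := by
    rw [map_zpow]
    exact hj
  have h2 : orderOf (ρ ^ j) = p := by
    rw [← H254.PSUn.orderOf_eq (q := q) (n := k + 3) hF hn, hj', ← MulAut.conj_apply, MulEquiv.orderOf_eq, hα]
  obtain ⟨e, u, h3, h4, h5, h6, h7⟩ := core (k := k) hF (Fact.out : r.Prime) hp hpG (ρ ^ j) h2
  rw [hj'] at h6 h7
  have key : ∀ x, α (g⁻¹ x) = g⁻¹ ((g * α * g⁻¹) x) := by
    intro x
    show α (g⁻¹ x) = g⁻¹ (g (α (g⁻¹ x)))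
    exact (MulAut.inv_apply_self _ g _).symm
  refine ⟨g⁻¹ e, g⁻¹ u, h3.map _, by rwa [MulEquiv.orderOf_eq], by rwa [MulEquiv.orderOf_eq, MulEquiv.orderOf_eq], ?_, ?_⟩
  · rw [key]
    obtain ⟨i, hi⟩ := h6
    refine ⟨i, ?_⟩
    show (g⁻¹ e) ^ i = _
    rw [← map_zpow]
    exact congrArg _ hi
  · rw [key]
    exact fun h => h7 ((g⁻¹).injective h)

end Cfsg.Agent.H471.TRowPSU

private theorem dce_ac13bd7696c6 : _root_.True := by
  try have : _root_.True := by simp only [_root_.Cfsg.Agent.H471.TRowPSU.dg.eq_1]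
  try have : _root_.True := by simp only [_root_.Cfsg.Agent.H471.TRowPSU.vv.eq_1]
  exact _root_.True.intro
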